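import Groth.Agent.H24.PowerSeries
import Groth.Agent.Lib.Adic.Complete
import Groth.Agent.Lib.Dim.Integral
import Groth.Agent.Lib.Regular.Quotient
import Groth.Agent.Lib.WildCoprod.Basic
import Mathlib.RingTheory.LocalRing.Length
import Mathlib.RingTheory.KrullDimension.NonZeroDivisors
import Mathlib.RingTheory.Artinian.Module

/-!
# A complete regular local ring over the power series in a system of parameters
-/

set_option autoImplicit false

universe u v

open IsLocalRing

namespace Groth.Agent.Lib.WildParam.Basic

variable {A : Type u} [CommRing A] [IsRegularLocalRing A] {n : ℕ} {k : Type v} [Field k] [Algebra k A]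
  {x : Fin n → A} (φ : MvPowerSeries (Fin n) k →ₐ[k] A) (hφ : ∀ i, φ (MvPowerSeries.X i) = x i)
  (hx : (Ideal.span (Set.range x)).radical = maximalIdeal A)

include hφ

omit [IsRegularLocalRing A] in
lemma map_maximalIdeal :
    (maximalIdeal (MvPowerSeries (Fin n) k)).map φ.toRingHom = Ideal.span (Set.range x) := by
  rw [Groth.Agent.H24.PowerSeries.maximalIdeal_eq k (Fin n), Ideal.map_span, ← Set.range_comp]
  congr 1
  exact congrArg Set.range (funext hφ)

include hx

lemma isLocalHom : IsLocalHom φ.toRingHom := by
  refine ⟨fun f hf => ?_⟩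
  by_contra h
  have h1 : φ f ∈ maximalIdeal A := by
    rw [← hx]
    exact Ideal.le_radical ((map_maximalIdeal φ hφ).le (Ideal.mem_map_of_mem φ.toRingHom
      ((mem_maximalIdeal f).mpr h)))
  exact (mem_maximalIdeal _).mp h1 hf

lemma length_ne_top : Module.length A (A ⧸ Ideal.span (Set.range x)) ≠ ⊤ := by
  have hne : Ideal.span (Set.range x) ≠ ⊤ := fun h =>
    (maximalIdeal.isMaximal A).ne_top (by rw [← hx, h, Ideal.radical_top])
  haveI : Nontrivial (A ⧸ Ideal.span (Set.range x)) := Ideal.Quotient.nontrivial_iff.mpr hne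
  haveI : Ring.KrullDimLE 0 (A ⧸ Ideal.span (Set.range x)) := Ring.KrullDimLE.mk₀ fun P hP => by
    let Q := P.comap (Ideal.Quotient.mk (Ideal.span (Set.range x)))
    have hle : Ideal.span (Set.range x) ≤ Q := fun y hy => by
      change Ideal.Quotient.mk _ y ∈ P
      rw [Ideal.Quotient.eq_zero_iff_mem.mpr hy]
      exact zero_mem _
    have hQ : Q = maximalIdeal A := ((maximalIdeal.isMaximal A).eq_of_le
      (Ideal.IsPrime.comap _).ne_top (hx ▸ (Ideal.IsPrime.comap _ : Q.IsPrime).radical_le_iff.mpr hle)).symm
    rw [← Ideal.map_comap_of_surjective _ Ideal.Quotient.mk_surjective P]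
    refine (Ideal.map_eq_top_or_isMaximal_of_surjective _ Ideal.Quotient.mk_surjective
      (show Q.IsMaximal from hQ ▸ maximalIdeal.isMaximal A)).resolve_left ?_
    rw [Ideal.map_comap_of_surjective _ Ideal.Quotient.mk_surjective]
    exact hP.ne_top
  haveI : IsArtinianRing (A ⧸ Ideal.span (Set.range x)) :=
    IsNoetherianRing.isArtinianRing_of_krullDimLE_zero
  rw [Module.length_eq_of_surjective (S := A) (R := A ⧸ Ideal.span (Set.range x))
    Ideal.Quotient.mk_surjective, Module.length_ne_top_iff, isFiniteLength_iff_isNoetherian_isArtinian]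
  exact ⟨inferInstance, inferInstance⟩

variable (hk : Function.Surjective (residue A ∘ algebraMap k A))

include hk

lemma length_restrictScalars [Algebra (MvPowerSeries (Fin n) k) A]
    (halg : algebraMap (MvPowerSeries (Fin n) k) A = φ.toRingHom) (M : Type u) [AddCommGroup M]
    [Module (MvPowerSeries (Fin n) k) M] [Module A M] [IsScalarTower (MvPowerSeries (Fin n) k) A M] :
    Module.length (MvPowerSeries (Fin n) k) M = Module.length A M := by
  haveI : IsLocalHom (algebraMap (MvPowerSeries (Fin n) k) A) := halg ▸ isLocalHom φ hφ hx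
  have hs : Function.Surjective
      (Algebra.linearMap (ResidueField (MvPowerSeries (Fin n) k)) (ResidueField A)) := by
    intro c
    obtain ⟨r, rfl⟩ := hk c
    refine ⟨residue _ (algebraMap k (MvPowerSeries (Fin n) k) r), ?_⟩
    change residue A (algebraMap (MvPowerSeries (Fin n) k) A (algebraMap k _ r)) = _
    rw [halg]
    exact congrArg (residue A) (φ.commutes r)
  have hres : Module.length (ResidueField (MvPowerSeries (Fin n) k)) (ResidueField A) = 1 := by
    refine le_antisymm ((Module.length_le_of_surjective _ hs).trans (le_of_eq ?_))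
      (Order.one_le_iff_pos.mpr Module.length_pos)
    exact Module.length_eq_one _ _
  rw [IsLocalRing.length_restrictScalars (A := MvPowerSeries (Fin n) k) (B := A) (M := M), hres, mul_one]

variable [IsAdicComplete (maximalIdeal A) A]

theorem finite : φ.toRingHom.Finite := by
  letI := φ.toRingHom.toAlgebra
  haveI := Groth.Agent.H24.PowerSeries.isAdicComplete k (Fin n)
  let P := MvPowerSeries (Fin n) k
  show Module.Finite P A
  have hmap : (maximalIdeal P).map (algebraMap P A) = Ideal.span (Set.range x) := map_maximalIdeal φ hφ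
  have hle : Ideal.span (Set.range x) ≤ maximalIdeal A := hx ▸ Ideal.le_radical
  haveI : IsHausdorff (maximalIdeal P) A := ⟨fun a ha => IsHausdorff.haus (I := maximalIdeal A) inferInstance a fun j => by
    have h1 := ha j
    rw [SModEq.zero] at h1 ⊢
    rw [Ideal.smul_top_eq_map, Submodule.restrictScalars_mem, Ideal.map_pow, hmap] at h1
    rw [smul_eq_mul, Ideal.mul_top]
    exact Ideal.pow_right_mono hle j h1⟩
  refine Groth.Agent.Lib.Adic.Complete.finite_of_finite_quotient (I := maximalIdeal P) ?_
  let e : (A ⧸ (maximalIdeal P • ⊤ : Submodule P A)) ≃ₗ[P] A ⧸ Ideal.span (Set.range x) :=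
    (Submodule.quotEquivOfEq _ _ (by rw [Ideal.smul_top_eq_map, hmap])).trans
      (Submodule.Quotient.restrictScalarsEquiv P (Ideal.span (Set.range x)))
  haveI : Module.Finite P (A ⧸ Ideal.span (Set.range x)) := by
    have h := length_restrictScalars φ hφ hx hk rfl (A ⧸ Ideal.span (Set.range x))
    have h2 := (isFiniteLength_iff_isNoetherian_isArtinian.mp
      (Module.length_ne_top_iff.mp (h.trans_ne (length_ne_top φ hφ hx)))).1
    exact Module.IsNoetherian.finite P _
  exact Module.Finite.equiv e.symm

theorem injective (hn : ringKrullDim A = n) : Function.Injective φ := by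
  haveI := Groth.Agent.H24.PowerSeries.isRegularLocalRing_fin k n
  haveI := Groth.Agent.Lib.Regular.Quotient.isDomain (MvPowerSeries (Fin n) k)
  let P := MvPowerSeries (Fin n) k
  rw [← AlgHom.coe_toRingHom, RingHom.injective_iff_ker_eq_bot]
  by_contra hne
  obtain ⟨f, hf, hf0⟩ := Submodule.exists_mem_ne_zero_of_ne_bot hne
  let φ' := Ideal.Quotient.lift (Ideal.span {f}) φ.toRingHom (fun a ha => by
    obtain ⟨c, rfl⟩ := Ideal.mem_span_singleton'.mp ha
    rw [map_mul, show φ.toRingHom f = 0 from RingHom.mem_ker.mp hf, mul_zero])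
  letI := φ'.toAlgebra
  haveI : Algebra.IsIntegral (P ⧸ Ideal.span {f}) A := by
    haveI : Module.Finite (P ⧸ Ideal.span {f}) A :=
      RingHom.Finite.of_comp_finite (f := Ideal.Quotient.mk (Ideal.span {f})) (g := φ')
        (show (φ'.comp (Ideal.Quotient.mk _)).Finite from by
          rw [Ideal.Quotient.lift_comp_mk]; exact finite φ hφ hx hk)
    exact Algebra.IsIntegral.of_finite _ _
  have h1 := Groth.Agent.Lib.Dim.Integral.ringKrullDim_le_of_isIntegral (R := P ⧸ Ideal.span {f}) (A := A)
  have h2 := ringKrullDim_quotient_succ_le_of_nonZeroDivisor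
    (mem_nonZeroDivisors_of_ne_zero hf0 : f ∈ nonZeroDivisors P)
  rw [Groth.Agent.H24.PowerSeries.ringKrullDim_eq k n] at h2
  rw [hn] at h1
  have h3 : (n : WithBot ℕ∞) + 1 ≤ n := (add_le_add h1 le_rfl).trans h2
  have h4 : ((n + 1 : ℕ) : WithBot ℕ∞) ≤ (n : ℕ) := by exact_mod_cast h3
  exact absurd (Nat.cast_le.mp h4) (by omega)

theorem exists_basis (hn : ringKrullDim A = n) :
    ∃ (d : ℕ) (b : Fin d → A), (d : ℕ∞) = Module.length A (A ⧸ Ideal.span (Set.range x)) ∧
      Function.Bijective (fun r : Fin d → MvPowerSeries (Fin n) k => ∑ i, φ (r i) * b i) := by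
  classical
  letI := φ.toRingHom.toAlgebra
  haveI := Groth.Agent.H24.PowerSeries.isRegularLocalRing_fin k n
  let P := MvPowerSeries (Fin n) k
  haveI : Module.Finite P A := finite φ hφ hx hk
  haveI : Module.Free P A :=
    Groth.Agent.Lib.WildCoprod.Basic.free_of_regular (injective φ hφ hx hk hn)
  let b : Module.Basis (Fin (Module.finrank P A)) P A := Module.finBasis P A
  refine ⟨Module.finrank P A, b, ?_, ?_⟩
  · rw [← length_restrictScalars φ hφ hx hk rfl (A ⧸ Ideal.span (Set.range x))]
    let J := maximalIdeal P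
    have hmap : J.map (algebraMap P A) = Ideal.span (Set.range x) := map_maximalIdeal φ hφ
    let π : A →ₗ[P] (Fin (Module.finrank P A) → P ⧸ J) :=
      (LinearMap.compLeft (Submodule.mkQ J) _) ∘ₗ b.equivFun.toLinearMap
    have hπ : Function.Surjective π :=
      (Function.Surjective.comp_left (Submodule.mkQ_surjective J)).comp b.equivFun.surjective
    have hker : LinearMap.ker π = (J.map (algebraMap P A)).restrictScalars P := by
      rw [← Ideal.smul_top_eq_map]
      refine le_antisymm (fun y hy => ?_) (fun y hy => ?_)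
      · rw [← b.sum_equivFun y]
        exact Submodule.sum_mem _ fun i _ => Submodule.smul_mem_smul
          ((Submodule.Quotient.mk_eq_zero J).mp (congrFun hy i)) Submodule.mem_top
      · refine Submodule.smul_induction_on hy (fun r hr z _ => funext fun i => ?_) fun z w hz hw => add_mem hz hw
        change Submodule.Quotient.mk (b.equivFun (r • z) i) = 0
        rw [map_smul, Pi.smul_apply, Submodule.Quotient.mk_eq_zero]
        exact J.mul_mem_right _ hr
    let e : (A ⧸ Ideal.span (Set.range x)) ≃ₗ[P] (Fin (Module.finrank P A) → P ⧸ J) :=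
      ((Submodule.Quotient.restrictScalarsEquiv P (Ideal.span (Set.range x))).symm.trans
        (Submodule.quotEquivOfEq _ _ (by rw [hker, hmap]))).trans (π.quotKerEquivOfSurjective hπ)
    have h1 : Module.length P (P ⧸ J) = 1 := by
      haveI : IsSimpleModule P (P ⧸ J) := isSimpleModule_iff_isCoatom.mpr (maximalIdeal.isMaximal P).out
      exact Module.length_eq_one _ _
    rw [e.length_eq, Module.length_pi_of_fintype, Finset.sum_const, h1, Finset.card_univ, Fintype.card_fin,
      nsmul_eq_mul, mul_one]
  · have h : (fun r : Fin (Module.finrank P A) → P => ∑ i, φ (r i) * b i) = b.equivFun.symm := by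
      funext r
      rw [b.equivFun_symm_apply]
      rfl
    rw [h]
    exact b.equivFun.symm.bijective

end Groth.Agent.Lib.WildParam.Basic
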